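import Cfsg.Agent.Lib.Helper12.TCG.SU35x15750.Chk0
import Cfsg.Agent.Lib.Helper12.TCG.SU35x15750.Chk1
import Cfsg.Agent.Lib.Helper12.TCG.SU35x15750.Chk2
import Cfsg.Agent.Lib.Helper12.TCG.SU35x15750.Chk3
import Cfsg.Agent.Lib.Helper12.TCG.SU35x15750.Perm
import Cfsg.Agent.Lib.Helper12.TCG.SU35x15750.Fin

/-! the index theorem for SU35x15750 (generated, helper12) -/

set_option autoImplicit false
set_option maxRecDepth 100000
set_option linter.unusedSimpArgs false

namespace Cfsg.Agent.Lib.Helper12.TCG.SU35x15750

open Cfsg.Agent.Lib.Helper12.TC Cfsg.Agent.Lib.Helper12.TCG Cfsg.Agent.Lib.Helper12.TCG.SU35Pres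

/-- the chunks of the certificate -/
def chunks : List (ℕ × List ℕ) :=
  [(29100, c0), (31100, c1), (33100, c2), (35100, c3), (37100, c4), (39100, c5), (41100, c6), (43100, c7), (45100, c8), (47100, c9), (49100, c10), (51100, c11), (53100, c12), (55100, c13), (57100, c14), (59100, c15), (61100, c16), (63100, c17), (65100, c18), (67100, c19), (69100, c20), (71100, c21), (73100, c22), (75100, c23), (77100, c24), (79100, c25)]

theorem hcover : coverK cD cK chunks = true := by decide +kernel

theorem hchunks : ∀ c ∈ chunks, chunkG cIV F RW cR0 c.2 c.1 = true := by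
  unfold chunks
  simp only [List.forall_mem_cons, List.not_mem_nil, false_imp_iff, implies_true, and_true]
  exact ⟨chunk0, chunk1, chunk2, chunk3, chunk4, chunk5, chunk6, chunk7, chunk8, chunk9, chunk10, chunk11, chunk12, chunk13, chunk14, chunk15, chunk16, chunk17, chunk18, chunk19, chunk20, chunk21, chunk22, chunk23, chunk24, chunk25⟩

end Cfsg.Agent.Lib.Helper12.TCG.SU35x15750
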